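import Cfsg.Agent.Lib.CosetEnum.Order
import Cfsg.Agent.Lib.CosetEnum.WordPres
import Cfsg.Agent.Lib.AltEightNine.Core.PointFacts
import Cfsg.Agent.Lib.AltEightNine.Pres.Top
import Cfsg.Agent.Lib.AltEightNine.Pres.Sub

/-!
# A presentation of the alternating group of degree eight by six involutions
-/

set_option autoImplicit false
set_option maxRecDepth 100000

namespace Cfsg.Lib.AltEightNine.Pres

open Cfsg.Lib.CosetEnum

/-- The relator words. -/
def rels : List (List ℕ) :=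
  [[0, 0], [1, 1], [2, 2], [3, 3], [4, 4], [5, 5], [0, 1, 0, 1, 0, 1, 0, 1], [0, 2, 0, 2], [0, 3, 0, 3],
   [0, 4, 0, 4, 0, 4], [0, 5, 0, 5], [1, 2, 1, 2, 1, 2, 1, 2], [1, 3, 1, 3, 1, 3], [1, 4, 1, 4], [1, 5, 1, 5],
   [2, 3, 2, 3], [2, 4, 2, 4], [2, 5, 2, 5, 2, 5], [3, 4, 3, 4, 3, 4, 3, 4], [3, 5, 3, 5, 3, 5, 3, 5], [4, 5, 4, 5],
   [0, 1, 3, 0, 1, 3, 0, 1, 3], [1, 2, 3, 1, 2, 3, 1, 2, 3], [5, 1, 2, 1, 2, 5, 1, 2, 1, 2, 1],
   [4, 0, 1, 0, 1, 4, 1, 1, 0, 1, 0]]

/-- The presented group. -/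
abbrev Grp8 : Type := WordPres.Grp 6 rels

/-- The generators. -/
noncomputable def xgen (g : ℕ) : Grp8 := WordPres.gens 6 rels g

theorem xgen_sq (g : ℕ) : xgen g * xgen g = 1 := WordPres.gens_mul_self (by decide) (by decide) g

theorem shifts_ok : shiftsOK rels Top.relWords = true ∧ shiftsOK rels Sub.relWords = true := by
  constructor <;> decide +kernel

theorem card_le : Finite Grp8 ∧ Nat.card Grp8 ≤ 20160 := by
  have hrel : ∀ r ∈ rels, wordVal xgen r = 1 := WordPres.wordVal_gens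
  have hbot : Subgroup.closure (xgen '' {g | g ∈ ([] : List ℕ)}) = ⊥ := by simp
  have h0 : Finite (Subgroup.closure (xgen '' {g | g ∈ ([] : List ℕ)})) ∧
      Nat.card (Subgroup.closure (xgen '' {g | g ∈ ([] : List ℕ)})) ≤ 1 := by
    rw [hbot]; exact ⟨inferInstance, Subgroup.card_bot.le⟩
  have step : ∀ {c : StepCert}, c.Valid rels → ∀ {S : List ℕ} {m : ℕ}, (∀ u ∈ c.U, ∃ g ∈ S, u = [g] ∧ g ≠ eps) →
      (Finite (Subgroup.closure (xgen '' {g | g ∈ S})) ∧ Nat.card (Subgroup.closure (xgen '' {g | g ∈ S})) ≤ m) →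
      Finite (Subgroup.closure (xgen '' {g | g ∈ c.S})) ∧
        Nat.card (Subgroup.closure (xgen '' {g | g ∈ c.S})) ≤ c.n * m := by
    intro c h S m hU hS
    refine h.card_le xgen_sq hrel (fun u hu => ?_) hS.1 hS.2
    obtain ⟨g, hg, rfl, hne⟩ := hU u hu
    rw [show wordVal xgen [g] = xgen g by simp [wordVal, gen, hne]]
    exact Subgroup.subset_closure ⟨g, hg, rfl⟩
  have h1 := step (Sub.step_valid shifts_ok.2) (S := []) (by decide +kernel) h0
  have h2 := step (Top.step_valid shifts_ok.1) (S := Sub.step.S) (by decide +kernel) h1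
  have e : Subgroup.closure (xgen '' {g | g ∈ Top.step.S}) = ⊤ := by
    refine Eq.trans ?_ (WordPres.closure_gens 6 rels)
    congr 2
    ext g
    show g ∈ [0, 1, 2, 3, 4, 5] ↔ g < 6
    simp only [List.mem_cons, List.not_mem_nil, or_false]
    omega
  rw [e] at h2
  obtain ⟨hf, hc⟩ := h2
  refine ⟨Finite.of_equiv _ Subgroup.topEquiv.toEquiv, ?_⟩
  rw [Subgroup.card_top] at hc
  exact hc.trans (le_of_eq (by decide +kernel))

open Equiv Equiv.Perm

/-- The images of the generators, as permutations. -/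
def imPerm : Fin 6 → Perm (Fin 8) :=
  ![swap 0 1 * swap 2 3 * swap 4 5 * swap 6 7, swap 0 2 * swap 1 4 * swap 3 6 * swap 5 7,
    swap 0 1 * swap 2 3 * swap 4 7 * swap 5 6, swap 0 3 * swap 1 2 * swap 4 6 * swap 5 7,
    swap 0 1 * swap 2 4 * swap 3 7 * swap 5 6, swap 0 1 * swap 2 4 * swap 3 5 * swap 6 7]

theorem imPerm_even : ∀ i, sign (imPerm i) = 1 := by decide +kernel

/-- The images of the generators. -/
def img8 (g : ℕ) : A8 :=
  if h : g < 6 then ⟨imPerm ⟨g, h⟩, mem_alternatingGroup.2 (imPerm_even _)⟩ else 1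

theorem img8_rels : ∀ r ∈ rels, wordVal img8 r = 1 := by decide +kernel

theorem exists_equiv : ∃ φ : Grp8 →* A8, Function.Bijective φ ∧ ∀ g < 6, φ (xgen g) = img8 g := by
  obtain ⟨φ, hφ⟩ := WordPres.exists_hom (k := 6) (R := rels) (by decide) (by decide) img8 img8_rels
  have hw : ∀ w : List ℕ, (∀ g ∈ w, g < 6) → wordVal img8 w ∈ φ.range := by
    intro w hw
    induction w with
    | nil => exact one_mem _
    | cons g w ih =>
      refine mul_mem (ih fun a ha => hw a (by simp [ha])) ?_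
      have hg := hw g (by simp)
      show (if g = eps then 1 else img8 g) ∈ φ.range
      rw [if_neg (by unfold eps; omega)]
      exact ⟨xgen g, hφ g hg⟩
  have hws : ∀ k : Fin 5, ∃ w ∈ [[1, 3, 1, 4, 0, 5, 2, 1, 3, 1], [0, 2, 1, 0, 2, 3, 1, 4, 5, 3, 1],
      [1, 3, 1, 0, 2, 1, 4, 5, 3, 4, 5], [0, 3, 1, 5, 2, 3, 1, 4, 0, 3, 1, 5],
      [0, 1, 2, 1, 0, 5, 3, 4, 3, 1, 5, 2, 3]], (w.all fun g => decide (g < 6)) = true ∧
        (wordVal img8 w = t8 k ∨ wordVal img8 w = (t8 k)⁻¹) := by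
    decide +kernel
  have ht : ∀ k, t8 k ∈ φ.range := by
    intro k
    obtain ⟨w, -, hlt, h⟩ := hws k
    have := hw w fun g hg => by simpa using List.all_eq_true.1 hlt g hg
    rcases h with h | h <;> rw [h] at this
    · exact this
    · exact inv_mem_iff.1 this
  have hsurj : Function.Surjective φ := by
    intro a
    show a ∈ φ.range
    -- move the last point back
    have hmove : ∀ j : Fin 8, ∃ w ∈ ([[3, 4], [4, 3], [1, 2], [2, 1], [0, 4], [4, 0], [4], [2], [1], [0], []] : List (List ℕ)),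
        (w.all fun g => decide (g < 6)) = true ∧ (wordVal img8 w).1 j = 7 := by
      decide +kernel
    obtain ⟨w, -, hlt, hwj⟩ := hmove (a.1 7)
    have hmem := hw w fun g hg => by simpa using List.all_eq_true.1 hlt g hg
    have h7 := mem_of_fix ht (a := wordVal img8 w * a) hwj
    have := mul_mem (inv_mem hmem) h7
    rwa [inv_mul_cancel_left] at this
  have := card_le.1
  refine ⟨φ, (Nat.bijective_iff_surjective_and_card φ).2 ⟨hsurj, le_antisymm ?_ (Nat.card_le_card_of_surjective φ hsurj)⟩, hφ⟩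
  rw [show Nat.card A8 = 20160 from by rw [nat_card_alternatingGroup, Nat.card_fin]; rfl]
  exact card_le.2

end Cfsg.Lib.AltEightNine.Pres
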